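import Mathlib

set_option autoImplicit false
universe u

open Finset Matrix

namespace Groth.Agent.MinorSpanLib

variable {R : Type u} [CommRing R]

theorem det_mul_expand {e r : ℕ} (A : Matrix (Fin e) (Fin r) R) (C : Matrix (Fin r) (Fin e) R) :
    (A * C).det = ∑ f : Fin e → Fin r, (∏ i, A i (f i)) * (C.submatrix f id).det := by
  have hrow : A * C = fun i => ∑ l, A i l • C l := by
    ext i j
    simp [Matrix.mul_apply, Finset.sum_apply]
  show Matrix.detRowAlternating (A * C) = _
  rw [hrow]
  erw [(Matrix.detRowAlternating (R := R) (n := Fin e)).toMultilinearMap.map_sum]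
  refine Finset.sum_congr rfl fun f _ => ?_
  exact (Matrix.detRowAlternating (R := R) (n := Fin e)).toMultilinearMap.map_smul_univ
    (fun i => A i (f i)) fun i => C (f i)

theorem cauchy_binet {e r : ℕ} (A : Matrix (Fin e) (Fin r) R) (C : Matrix (Fin r) (Fin e) R) :
    (A * C).det = ∑ S : {s : Finset (Fin r) // s.card = e},
      (A.submatrix id (S.1.orderEmbOfFin S.2)).det * (C.submatrix (S.1.orderEmbOfFin S.2) id).det := by
  classical
  rw [det_mul_expand, ← Finset.sum_subset (s₁ := univ.filter fun f : Fin e → Fin r => Function.Injective f)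
    (subset_univ _) (fun f _ hf => ?_)]
  swap
  · simp only [Finset.mem_filter, Finset.mem_univ, true_and, Function.Injective, not_forall] at hf
    obtain ⟨i, j, hij, hne⟩ := hf
    rw [Matrix.det_zero_of_row_eq hne (funext fun x => by simp [hij]), mul_zero]
  have hinner : ∀ S : {s : Finset (Fin r) // s.card = e},
      (A.submatrix id (S.1.orderEmbOfFin S.2)).det * (C.submatrix (S.1.orderEmbOfFin S.2) id).det =
      ∑ σ : Equiv.Perm (Fin e), (∏ i, A i (S.1.orderEmbOfFin S.2 (σ i))) *
        (C.submatrix (S.1.orderEmbOfFin S.2 ∘ σ) id).det := by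
    intro S
    rw [← Matrix.det_transpose, Matrix.det_apply', Finset.sum_mul]
    refine Finset.sum_congr rfl fun σ _ => ?_
    rw [show C.submatrix (S.1.orderEmbOfFin S.2 ∘ σ) id = (C.submatrix (S.1.orderEmbOfFin S.2) id).submatrix σ id from rfl,
      Matrix.det_permute]
    simp only [Matrix.transpose_apply, Matrix.submatrix_apply, id_eq]
    ring
  simp only [hinner]
  rw [← Finset.sum_product' univ univ (fun (S : {s : Finset (Fin r) // s.card = e}) (σ : Equiv.Perm (Fin e)) =>
    (∏ i, A i (S.1.orderEmbOfFin S.2 (σ i))) * (C.submatrix (S.1.orderEmbOfFin S.2 ∘ σ) id).det)]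
  symm
  refine Finset.sum_bij (fun p _ => p.1.1.orderEmbOfFin p.1.2 ∘ p.2) ?_ ?_ ?_ (fun _ _ => rfl)
  · rintro ⟨S, σ⟩ _
    simpa using (S.1.orderEmbOfFin S.2).injective
  · rintro ⟨⟨S, hS⟩, σ⟩ _ ⟨⟨T, hT⟩, τ⟩ _ h
    replace h : ⇑(S.orderEmbOfFin hS) ∘ σ = ⇑(T.orderEmbOfFin hT) ∘ τ := h
    have h3 := congrArg Set.range h
    rw [σ.surjective.range_comp, τ.surjective.range_comp, Finset.range_orderEmbOfFin,
      Finset.range_orderEmbOfFin, Finset.coe_inj] at h3
    subst h3
    rw [show σ = τ from Equiv.ext fun i => (S.orderEmbOfFin hS).injective (congrFun h i)]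
  · intro a ha
    have hinj : Function.Injective a := (Finset.mem_filter.1 ha).2
    have hS : (univ.image a).card = e := by
      rw [Finset.card_image_of_injective _ hinj, Finset.card_univ, Fintype.card_fin]
    have hex : ∀ i, ∃ j, (univ.image a).orderEmbOfFin hS j = a i := fun i => by
      rw [← Set.mem_range, Finset.range_orderEmbOfFin]; simp
    choose σ hσ using hex
    have hσi : Function.Injective σ := fun i j h => hinj (by rw [← hσ i, ← hσ j, h])
    exact ⟨(⟨univ.image a, hS⟩, Equiv.ofBijective σ (Finite.injective_iff_bijective.mp hσi)),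
      Finset.mem_product.2 ⟨Finset.mem_univ _, Finset.mem_univ _⟩, funext hσ⟩

theorem span_minors (e r n : ℕ) (M : Matrix (Fin r) (Fin n) R)
    (A : {s : Finset (Fin r) // s.card = e} → Matrix (Fin e) (Fin r) R)
    (hA : IsUnit (Matrix.det (Matrix.of fun i j : {s : Finset (Fin r) // s.card = e} =>
      ((A i).submatrix id (j.1.orderEmbOfFin j.2)).det))) :
    (⨆ i, Ideal.span (Set.range fun t : {s : Finset (Fin n) // s.card = e} =>
        ((A i * M).submatrix id (t.1.orderEmbOfFin t.2)).det)) =
      Ideal.span (Set.range fun p : {s : Finset (Fin r) // s.card = e} × {s : Finset (Fin n) // s.card = e} =>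
        (M.submatrix (p.1.1.orderEmbOfFin p.1.2) (p.2.1.orderEmbOfFin p.2.2)).det) := by
  classical
  set N : Matrix {s : Finset (Fin r) // s.card = e} {s : Finset (Fin r) // s.card = e} R :=
    Matrix.of fun i j => ((A i).submatrix id (j.1.orderEmbOfFin j.2)).det with hN
  set Q : Matrix {s : Finset (Fin r) // s.card = e} {s : Finset (Fin n) // s.card = e} R :=
    Matrix.of fun i j => (M.submatrix (i.1.orderEmbOfFin i.2) (j.1.orderEmbOfFin j.2)).det with hQ
  have hcb : ∀ i t, ((A i * M).submatrix id (t.1.orderEmbOfFin t.2)).det = (N * Q) i t := by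
    intro i t
    rw [show (A i * M).submatrix id (t.1.orderEmbOfFin t.2) = A i * M.submatrix id (t.1.orderEmbOfFin t.2) from rfl,
      cauchy_binet, Matrix.mul_apply]
    rfl
  have hfun : ∀ i, (fun t : {s : Finset (Fin n) // s.card = e} => ((A i * M).submatrix id (t.1.orderEmbOfFin t.2)).det) = (fun t => (N * Q) i t) := fun i => funext (hcb i)
  simp only [hfun]
  refine le_antisymm (iSup_le fun i => Ideal.span_le.mpr ?_) (Ideal.span_le.mpr ?_)
  · rintro _ ⟨t, rfl⟩
    simp only [SetLike.mem_coe, Matrix.mul_apply]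
    exact Ideal.sum_mem _ fun j _ => Ideal.mul_mem_left _ _ (Ideal.subset_span ⟨(j, t), rfl⟩)
  · rintro _ ⟨⟨S, T⟩, rfl⟩
    have : Q = N⁻¹ * (N * Q) := (Matrix.nonsing_inv_mul_cancel_left _ _ hA).symm
    show Q S T ∈ _
    rw [show Q S T = (N⁻¹ * (N * Q)) S T from congrFun (congrFun this S) T]
    generalize hP : N * Q = P
    rw [Matrix.mul_apply]
    refine Ideal.sum_mem _ fun i _ => Ideal.mul_mem_left _ _ ?_
    exact Submodule.mem_iSup_of_mem i (Ideal.subset_span ⟨T, rfl⟩)

end Groth.Agent.MinorSpanLib
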